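import Cfsg.Agent.J2Type.FiveFus
import Cfsg.Agent.KFacts.J2.Facts

/-!
# `J₂`: an element of order `3` normalising a Sylow `5`-subgroup (helper884)
-/

set_option autoImplicit false

namespace Cfsg.Agent.H884.Od8

open Subgroup

/-- the elements of order dividing `5` in a cyclic group -/
theorem eq_of_cyclic {G : Type*} [Group G] [Finite G] (P : Subgroup G) [IsCyclic P] {X Y : Subgroup G} (hX : X ≤ P)
    (hY : Y ≤ P) (hXc : Nat.card X = 5) (hYc : Nat.card Y = 5) : X = Y := by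
  classical
  have hft := Fintype.ofFinite P
  have h1 := IsCyclic.card_pow_eq_one_le (α := P) (n := 5) (by norm_num)
  set s := Finset.univ.filter fun a : P => a ^ 5 = 1 with hs
  have h2 : ∀ (Z : Subgroup G), Z ≤ P → Nat.card Z = 5 → ∀ a : P, a ∈ s ↔ (a : G) ∈ Z := by
    intro Z hZ hZc
    have h3 : (Finset.univ.filter fun a : P => (a : G) ∈ Z) ⊆ s := by
      intro a ha
      rw [Finset.mem_filter] at ha
      rw [hs, Finset.mem_filter]
      refine ⟨Finset.mem_univ _, Subtype.ext ?_⟩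
      have h5 : (⟨(a : G), ha.2⟩ : Z) ^ Nat.card Z = 1 := pow_card_eq_one'
      rw [hZc] at h5
      exact congrArg (fun u : Z => (u : G)) h5
    have h4 : (Finset.univ.filter fun a : P => (a : G) ∈ Z).card = 5 := by
      rw [← hZc, ← Fintype.card_subtype, ← Nat.card_eq_fintype_card]
      exact Nat.card_congr ⟨fun g => ⟨g.1, g.2⟩, fun g => ⟨⟨g.1, hZ g.2⟩, g.2⟩, fun _ => rfl, fun _ => rfl⟩
    have h5 := Finset.eq_of_subset_of_card_le h3 (by rw [h4]; exact h1)
    intro a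
    rw [← h5, Finset.mem_filter]
    simp
  ext g
  constructor
  · intro hg
    exact (h2 Y hY hYc ⟨g, hX hg⟩).1 ((h2 X hX hXc _).2 hg)
  · intro hg
    exact (h2 X hX hXc ⟨g, hY hg⟩).1 ((h2 Y hY hYc _).2 hg)

/-- **`J₂`** -/
theorem j2_five {X : Type} [Group X] [Finite X] (h : Cfsg.Spor.IsoJ2 X) :
    ∃ (P : Subgroup X) (z : X), Nat.card P = 25 ∧ (∀ g ∈ P, g ^ 5 = 1) ∧ (∀ g ∈ P, ∀ h ∈ P, g * h = h * g) ∧
      orderOf z = 3 ∧ ∀ g ∈ P, z * g * z⁻¹ ∈ P := by
  have h5 : Fact (Nat.Prime 5) := ⟨Nat.prime_five⟩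
  have h3 : Fact (Nat.Prime 3) := ⟨Nat.prime_three⟩
  obtain ⟨z, u, Q, v, ρ, D⟩ := KFacts.J2.Facts.exists_dat_of h
  have hF := D.F
  have hG := J2Type.Order.card_of_fus hF
  obtain ⟨P⟩ : Nonempty (Sylow 5 X) := inferInstance
  obtain ⟨-, h25, h300, X₁, Y₁, hX, hY, hXY, -⟩ := J2Type.FiveFus.sylow_five hF P
  obtain ⟨c, hc⟩ := exists_prime_orderOf_dvd_card' (G := normalizer ((P : Subgroup X) : Set X)) 3
    (by rw [h300]; norm_num)
  -- conjugates in `P`
  have hsyl : ∀ Z : Subgroup X, Nat.card Z = 5 → ∃ g : X, Z.map (MulAut.conj g).toMonoidHom ≤ P := by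
    intro Z hZ
    have h1 : IsPGroup 5 Z := IsPGroup.of_card (n := 1) (by rw [hZ, pow_one])
    obtain ⟨P', hP'⟩ := h1.exists_le_sylow
    obtain ⟨g, hg⟩ := MulAction.exists_smul_eq X P' P
    refine ⟨g, ?_⟩
    rintro _ ⟨y, hy, rfl⟩
    rw [← hg, Sylow.coe_subgroup_smul]
    exact Subgroup.smul_mem_pointwise_smul y (MulAut.conj g) _ (hP' hy)
  have hexp : ∀ g ∈ (P : Subgroup X), g ^ 5 = 1 := by
    intro g hg
    have h1 : orderOf g ∣ 5 ^ 2 := by
      have := Subgroup.orderOf_dvd_natCard (P : Subgroup X) hg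
      rwa [h25] at this
    obtain ⟨j, hj, hjo⟩ := (Nat.dvd_prime_pow Nat.prime_five).1 h1
    have h2 : j = 0 ∨ j = 1 ∨ j = 2 := by omega
    rcases h2 with h2 | h2 | h2
    · rw [h2, pow_zero, orderOf_eq_one_iff] at hjo
      rw [hjo, one_pow]
    · rw [h2, pow_one] at hjo
      rw [← hjo, pow_orderOf_eq_one]
    · exfalso
      have h4 : zpowers g = P := Subgroup.eq_of_le_of_card_ge (zpowers_le.2 hg) (by
        rw [h25, Nat.card_zpowers, hjo, h2]; norm_num)
      have h6 : IsCyclic (P : Subgroup X) := by rw [← h4]; infer_instance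
      obtain ⟨a, ha⟩ := hsyl X₁ hX
      obtain ⟨b, hb⟩ := hsyl Y₁ hY
      have h7 := eq_of_cyclic (P : Subgroup X) ha hb
        (by rw [Subgroup.card_map_of_injective (MulAut.conj a).injective, hX])
        (by rw [Subgroup.card_map_of_injective (MulAut.conj b).injective, hY])
      apply hXY (b⁻¹ * a)
      have h8 : (MulAut.conj (b⁻¹ * a)).toMonoidHom = (MulAut.conj b⁻¹).toMonoidHom.comp (MulAut.conj a).toMonoidHom := by
        ext x
        simp [mul_assoc]
      rw [h8, ← Subgroup.map_map, h7, Subgroup.map_map]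
      have h9 : (MulAut.conj b⁻¹).toMonoidHom.comp (MulAut.conj b).toMonoidHom = MonoidHom.id X := by
        ext x
        simp [mul_assoc]
      rw [h9, Subgroup.map_id]
  refine ⟨P, c, h25, hexp, fun g hg h hh => J2Type.SylowFive.comm_of_mem hG P hg hh, ?_, ?_⟩
  · rw [Subgroup.orderOf_coe, hc]
  · intro g hg
    exact (mem_normalizer_iff.1 c.2 g).1 hg

end Cfsg.Agent.H884.Od8
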