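import Cfsg.Agent.H884.Od8.Elem
import Cfsg.Agent.H884.Od8.JTwo
import Cfsg.Agent.H503.BG.Full
import Cfsg.Agent.H503.El.O8Fin
import Cfsg.Agent.H152.AbClassical
import Cfsg.Agent.S0817

/-!
# S3561: the row of `Ω⁺₈(2)` (helper884)
-/

set_option autoImplicit false
set_option maxRecDepth 100000

namespace Cfsg.Agent.H884.Od8

open Subgroup Cfsg Cfsg.Agent Cfsg.Agent.H57.BG Cfsg.Agent.H503 Cfsg.Agent.H503.BG Cfsg.Agent.H503.El.O8
open Cfsg.Agent.H970.StabNum

attribute [local instance] act8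

/-- the quadratic form -/
def QQ (v : Multiplicative (I8 → ZMod 2)) : ZMod 2 := Q8 (Multiplicative.toAdd v)

theorem term_eq : ∀ a b c d e f : ZMod 2, (a + b + c) * (d + e + f) + (a + b) * (d + e) + (a + c) * (d + f) +
    (b + c) * (e + f) + a * d + b * e + c * f = 0 := by decide

theorem quad8 (u v w : I8 → ZMod 2) :
    Q8 (u + v + w) + Q8 (u + v) + Q8 (u + w) + Q8 (v + w) + Q8 u + Q8 v + Q8 w = 0 := by
  unfold Q8 quadFormPlus
  simp only [Pi.add_apply, ← Finset.sum_add_distrib]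
  exact Finset.sum_eq_zero fun i _ => term_eq _ _ _ _ _ _

theorem cardQ8 : (Finset.univ.filter fun v : I8 → ZMod 2 => Q8 v = 0).card = 136 := by decide +kernel

/-- the situation for the elementary abelian subgroups of order `25` -/
theorem sit8 (E : Subgroup S8) (hE : Nat.card E = 25) (hp : ∀ g ∈ E, g ^ 5 = 1)
    (hc : ∀ g ∈ E, ∀ h ∈ E, g * h = h * g) : Sit QQ E where
  cardV := card_v8
  faith g hg := by
    have h1 : rho g = 1 := El.actOf_basis rho g fun i => hg _
    exact rho_injective (h1.trans (map_one _).symm)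
  sq := sq8
  inv g v := rho_iso g _
  quad u v w := quad8 _ _ _
  cardQ := by
    have h1 : Nat.card {v : Multiplicative (I8 → ZMod 2) // QQ v = 0} = Nat.card {v : I8 → ZMod 2 // Q8 v = 0} :=
      Nat.card_congr (Equiv.subtypeEquiv Multiplicative.toAdd fun v => Iff.rfl)
    rw [h1, Nat.card_eq_fintype_card, Fintype.card_subtype]
    exact cardQ8
  cardE := hE
  pow := hp
  comm := hc

/-- the situation in the simple group -/
theorem sit8' {E : Subgroup T8} (hE : Nat.card E = 25) (hp : ∀ g ∈ E, g ^ 5 = 1)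
    (hc : ∀ g ∈ E, ∀ h ∈ E, g * h = h * g) : Sit QQ (E.map e8.symm.toMonoidHom) := by
  refine sit8 _ ?_ ?_ ?_
  · rw [Subgroup.card_map_of_injective e8.symm.injective, hE]
  · rintro _ ⟨g, hg, rfl⟩
    rw [← map_pow, hp g hg, map_one]
  · rintro _ ⟨g, hg, rfl⟩ _ ⟨h, hh, rfl⟩
    rw [← map_mul, hc g hg h hh, map_mul]

theorem no_two8 {E : Subgroup T8} (hE : Nat.card E = 25) (hp : ∀ g ∈ E, g ^ 5 = 1)
    (hc : ∀ g ∈ E, ∀ h ∈ E, g * h = h * g) {t : T8} (ht : orderOf t = 2) (hct : ∀ g ∈ E, t * g = g * t) : False := by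
  refine (sit8' hE hp hc).no_two (t := e8.symm t) (by rw [MulEquiv.orderOf_eq, ht]) ?_
  rintro _ ⟨g, hg, rfl⟩
  show e8.symm t * e8.symm g = e8.symm g * e8.symm t
  rw [← map_mul, hct g hg, map_mul]

theorem no_three8 {E : Subgroup T8} (hE : Nat.card E = 25) (hp : ∀ g ∈ E, g ^ 5 = 1)
    (hc : ∀ g ∈ E, ∀ h ∈ E, g * h = h * g) {z : T8} (hz : orderOf z = 3) (hcz : ∀ g ∈ E, z * g * z⁻¹ ∈ E) : False := by
  haveI : Finite S8 := Finite.of_equiv T8 e8.symm.toEquiv
  refine (sit8' hE hp hc).no_three_norm (z := e8.symm z) (by rw [MulEquiv.orderOf_eq, hz]) ?_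
  rintro _ ⟨g, hg, rfl⟩
  refine ⟨z * g * z⁻¹, hcz g hg, ?_⟩
  show e8.symm (z * g * z⁻¹) = e8.symm z * e8.symm g * (e8.symm z)⁻¹
  rw [map_mul, map_mul, map_inv]

/-- the elements of order dividing `5` of `inner A` -/
theorem exists_E {A : Subgroup (MulAut T8)} {L : Subgroup T8} (h : Reg A L) (hc : center T8 = ⊥)
    (hd : 5 ∣ L.index) (hout : ¬ 5 ∣ (Inn T8).index) :
    ∃ E : Subgroup T8, E ≤ inner A ∧ Nat.card E = 25 ∧ ∀ g ∈ E, g ^ 5 = 1 := by
  haveI : Fact (Nat.Prime 5) := ⟨Nat.prime_five⟩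
  obtain ⟨x, y, hx, hy, hxo, hyo, hyx⟩ := h.exists_pair hc Nat.prime_five hd hout
  set E : Subgroup T8 :=
    { carrier := {s | s ∈ inner A ∧ s ^ 5 = 1}
      one_mem' := ⟨one_mem _, one_pow 5⟩
      mul_mem' := by
        rintro a b ⟨ha, ha'⟩ ⟨hb, hb'⟩
        exact ⟨mul_mem ha hb, by rw [(show Commute a b from h.inner_comm hc ha hb).mul_pow, ha', hb', one_mul]⟩
      inv_mem' := by
        rintro a ⟨ha, ha'⟩
        exact ⟨inv_mem ha, by rw [inv_pow, ha', inv_one]⟩ } with hE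
  have hEp : IsPGroup 5 E := fun s => ⟨1, by rw [pow_one]; exact Subtype.ext s.2.2⟩
  have hxE : x ∈ E := ⟨hx, by rw [← hxo]; exact pow_orderOf_eq_one x⟩
  have hyE : y ∈ E := ⟨hy, by rw [← hyo]; exact pow_orderOf_eq_one y⟩
  refine ⟨E, fun s hs => hs.1, ?_, fun s hs => hs.2⟩
  obtain ⟨k, hk⟩ := hEp.exists_card_eq
  have h1 : 5 ^ k ∣ 174182400 := by rw [← hk, ← card_t8]; exact Subgroup.card_subgroup_dvd_card E
  have h2 : k ≤ 2 := by
    by_contra hcon
    have h3 : 5 ^ 3 ∣ 5 ^ k := pow_dvd_pow 5 (by omega)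
    exact absurd (h3.trans h1) (by norm_num)
  have h3 : 2 ≤ k := by
    by_contra hcon
    apply hyx
    have h4 : zpowers x = E := by
      refine Subgroup.eq_of_le_of_card_ge (zpowers_le.2 hxE) ?_
      rw [hk, Nat.card_zpowers, hxo]
      calc 5 ^ k ≤ 5 ^ 1 := Nat.pow_le_pow_right (by norm_num) (by omega)
        _ = 5 := by norm_num
    rw [h4]
    exact hyE
  have h4 : k = 2 := by omega
  rw [hk, h4]
  norm_num

variable (OT : OrdDiv.OrderTable.{0})
  (hS : ∀ (X : Type) [Group X] [Finite X] [IsSimpleGroup X], Cfsg.IsKnownSimple' X)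

include OT hS

set_option maxHeartbeats 2000000 in
/-- **The row of `Ω⁺₈(2)`** -/
theorem row_t8 : Row T8 := by
  classical
  haveI h7p : Fact (Nat.Prime 7) := ⟨by norm_num⟩
  haveI : Fact (Nat.Prime 2) := ⟨Nat.prime_two⟩
  have hc := center_bot card_t8 (p := 2) (by norm_num) (by norm_num) (by norm_num)
  have hout : (Inn T8).index = 6 := index_of_card hc (by
    have := S0817.result (F := ZMod 2) 2 1 le_rfl (by rw [ZMod.card]; norm_num) 4 le_rfl
    rw [if_pos rfl, if_pos rfl] at this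
    exact this)
  have hex := H732.SelfCent.omega8plus_selfcent (F := ZMod 2) (ZMod.card 2)
  have hent : ∀ P : Subgroup T8, Nat.card P = 7 → Nat.card (centralizer (P : Set T8)) ∣ 7 * 1 ∧
      Nat.card (normalizer (P : Set T8)) ∣ 7 * 6 :=
    El.entry_of_ex (by norm_num) card_t8 (by norm_num) (by norm_num) (by decide +kernel) hex
  intro A L h
  have h1 := mem_of_ex3 h OT hS hc (p := 7) (M := 6) (l := [(2, 12), (3, 5), (5, 2), (7, 1)]) (ps := [2, 3, 5, 7])
    (tbl := [60, 168, 360, 504, 2520, 6048, 20160, 25920, 181440, 604800, 1451520, 1814400, 174182400]) card_t8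
    (by norm_num) (by norm_num) (by norm_num) (by decide +kernel) (by decide +kernel) hex
    (H152.AbClassical.ab3_POmegaPlus (F := ZMod 2) (m := 4) le_rfl) hout
  have h2 : (((subR 174182400 [(2, 12), (3, 5), (5, 2), (7, 1)] [(7, 1, 6)] [2, 3, 5, 7]
      [60, 168, 360, 504, 2520, 6048, 20160, 25920, 181440, 604800, 1451520, 1814400, 174182400] 6).filter
      fun h => !kill3 174182400 [(2, 12), (3, 5), (5, 2), (7, 1)] 6 h).all
      fun h => h == 96768 || (h == 258048 || h == 604800)) = true := by decide +kernel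
  rw [List.all_eq_true] at h2
  have h2' := h2 _ h1
  rw [Bool.or_eq_true, Bool.or_eq_true, beq_iff_eq, beq_iff_eq, beq_iff_eq] at h2'
  have hidx : Nat.card L * L.index = 174182400 := by rw [L.card_mul_index, card_t8]
  rcases h2' with h2 | h2 | h2
  · -- the index `1800`
    have h3 : L.index = 1800 := by rw [h2] at hidx; omega
    obtain ⟨E, hEA, hE, hE5⟩ := exists_E h hc (by rw [h3]; norm_num) (by rw [hout]; norm_num)
    obtain ⟨t, htA, hto⟩ := h.exists_inner hc Nat.prime_two (k := 3) (by rw [h3]; norm_num) (by rw [hout]; norm_num)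
    exact no_two8 hE hE5 (fun g hg g' hg' => h.inner_comm hc (hEA hg) (hEA hg')) hto
      fun g hg => h.inner_comm hc htA (hEA hg)
  · -- the index `675`
    have h3 : L.index = 675 := by rw [h2] at hidx; omega
    obtain ⟨E, hEA, hE, hE5⟩ := exists_E h hc (by rw [h3]; norm_num) (by rw [hout]; norm_num)
    obtain ⟨t, htA, hto⟩ := h.exists_inner hc Nat.prime_three (k := 3) (by rw [h3]; norm_num) (by rw [hout]; norm_num)
    refine no_three8 hE hE5 (fun g hg g' hg' => h.inner_comm hc (hEA hg) (hEA hg')) hto fun g hg => ?_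
    rw [h.inner_comm hc htA (hEA hg), mul_inv_cancel_right]
    exact hg
  -- `L ≅ J₂`
  have hR7 : 7 ∣ Nat.card L := by rw [h2]; norm_num
  have hR49 : ¬ 7 ^ 2 ∣ Nat.card L := by rw [h2]; norm_num
  obtain ⟨x, hx⟩ := exists_prime_orderOf_dvd_card' 7 hR7
  have hP : Nat.card (zpowers x) = 7 := by rw [Nat.card_zpowers, hx]
  have hPm : Nat.card ((zpowers x).map L.subtype) = 7 := by
    rw [← hP]
    exact (Nat.card_congr ((zpowers x).equivMapOfInjective _ L.subtype_injective).toEquiv).symm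
  obtain ⟨L₁, hLn, B, hBn, hs, hA7, hPL, hcard, h7, D, m, hN, hDC, hDA, hpow⟩ := El.Struct.exists_struct' hP hR49
  have hC7 : Nat.card (centralizer ((zpowers x : Subgroup L) : Set L)) ∣ 7 :=
    (El.Fix.card_cent_map L.subtype_injective _).trans (by simpa using (hent _ hPm).1)
  have hN42 : Nat.card (normalizer ((zpowers x : Subgroup L) : Set L)) ∣ 42 :=
    (El.Fix.card_norm_map L.subtype_injective _).trans (hent _ hPm).2
  have hD1 : D = 1 := by
    rcases (Nat.dvd_prime h7p.out).1 (hDC.trans hC7) with h3 | h3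
    · exact h3
    · exact absurd (h3 ▸ hDA) hA7
  subst hD1
  have hc6 : L₁.index ∣ 6 := by
    rw [hN] at hN42
    have h3 : L₁.index * m * 7 ∣ 6 * 7 := by
      have h4 : L₁.index * (1 * (7 * m)) = L₁.index * m * 7 := by ring
      rw [h4] at hN42
      exact hN42
    exact (Dvd.intro _ rfl).trans (Nat.dvd_of_mul_dvd_mul_right (by norm_num) h3)
  have hpow' : ∀ r : ℕ, r.Prime → r ^ ((Nat.card B).factorization r) ≡ 1 [MOD 7] := by
    intro r hr
    obtain ⟨j, hj, hj'⟩ := hpow r hr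
    rwa [Nat.dvd_one.1 hj] at hj'
  set a := Nat.card B with ha
  set s := Nat.card (L₁ ⧸ B) with hsd
  set c := L₁.index with hcd
  have ha0 : a ≠ 0 := (Nat.card_pos (α := B)).ne'
  have hadvd : a ∣ Nat.card L := ⟨s * c, by rw [hcard]; ring⟩
  have hsdvd : s ∣ Nat.card L := ⟨a * c, by rw [hcard]; ring⟩
  have h5a : ¬ 5 ∣ a := by
    intro h3
    have h4 := hpow' 5 (by norm_num)
    have h5 : 1 ≤ a.factorization 5 := ((by norm_num : Nat.Prime 5).dvd_iff_one_le_factorization ha0).1 h3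
    have h6 : ¬ 3 ≤ a.factorization 5 := fun h6 => by
      have h7 := (((by norm_num : Nat.Prime 5).pow_dvd_iff_le_factorization ha0).2 h6).trans hadvd
      rw [h2] at h7
      exact absurd h7 (by norm_num)
    have h7 : a.factorization 5 = 1 ∨ a.factorization 5 = 2 := by omega
    rcases h7 with h7 | h7 <;> rw [h7] at h4 <;> exact absurd h4 (by decide)
  have h5c : ¬ 5 ∣ c := fun h3 => by
    have := h3.trans hc6
    omega
  have h25s : 25 ∣ s := by
    have hR25 : 25 ∣ Nat.card L := by rw [h2]; norm_num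
    rw [hcard] at hR25
    have h3 : Nat.Coprime 25 a := by
      rw [show (25 : ℕ) = 5 ^ 2 by norm_num]
      exact Nat.Coprime.pow_left _ ((Nat.Prime.coprime_iff_not_dvd (by norm_num)).2 h5a)
    have h4 : Nat.Coprime 25 c := by
      rw [show (25 : ℕ) = 5 ^ 2 by norm_num]
      exact Nat.Coprime.pow_left _ ((Nat.Prime.coprime_iff_not_dvd (by norm_num)).2 h5c)
    exact h3.dvd_of_dvd_mul_left (h4.dvd_of_dvd_mul_right hR25)
  have hna : ¬ ∀ u v : L₁ ⧸ B, u * v = v * u := by
    intro hab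
    letI : CommGroup (L₁ ⧸ B) := { (inferInstance : Group (L₁ ⧸ B)) with mul_comm := hab }
    have h3 : s.Prime := IsSimpleGroup.prime_card (α := L₁ ⧸ B)
    have h4 : 7 = s := (Nat.prime_dvd_prime_iff_eq h7p.out h3).1 h7
    omega
  have hsT : s ∣ Nat.card T8 := hsdvd.trans (Subgroup.card_subgroup_dvd_card L)
  have hD : Data T8 [(7, 1, 6)] [2, 3, 5, 7]
      [60, 168, 360, 504, 2520, 6048, 20160, 25920, 181440, 604800, 1451520, 1814400, 174182400] := by
    refine El.mk_data OT hS (l := [(2, 12), (3, 5), (5, 2), (7, 1)]) card_t8 (by decide +kernel) ?_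
    intro x hx
    rw [List.mem_singleton] at hx
    subst hx
    exact hent
  have hstbl := hD.tbl (L₁ ⧸ B) hs hna hsT
  have hs4 : s ∣ 604800 := by rw [← h2]; exact hsdvd
  have hs6 : s = 604800 := by
    have h3 : ∀ s ∈ [60, 168, 360, 504, 2520, 6048, 20160, 25920, 181440, 604800, 1451520, 1814400, 174182400],
        25 ∣ s → s ∣ 604800 → s = 604800 := by decide +kernel
    exact h3 _ hstbl h25s hs4
  have hac : a * c = 1 := by
    rw [hcard, hs6] at h2
    nlinarith
  have ha1 : a = 1 := Nat.eq_one_of_mul_eq_one_right hac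
  have hc1 : c = 1 := Nat.eq_one_of_mul_eq_one_left hac
  have hAb : B = ⊥ := Subgroup.eq_bot_of_card_eq _ ha1
  have hLt : L₁ = ⊤ := Subgroup.index_eq_one.1 hc1
  obtain ⟨g, hg, hreal⟩ := OrdDiv.exists_real_filter OT (S := L₁ ⧸ B) (hS _) hna
    (l := [(2, 12), (3, 5), (5, 2), (7, 1)]) (N := 174182400) (by decide +kernel) (by rw [← card_t8]; exact hsT)
    (fun o => o == 604800) (by rw [← hsd, hs6]; rfl)
  have hj : ((OrdDiv.cands [(2, 12), (3, 5), (5, 2), (7, 1)] 174182400).filter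
      fun g => OrdDiv.ordN g == 604800).all (fun g => match g with
        | .j2 => true
        | _ => false) = true := by decide +kernel
  rw [List.all_eq_true] at hj
  have hj' := hj g hg
  have hJ : Spor.IsoJ2 (L₁ ⧸ B) := by
    cases g <;> first | exact hreal | exact absurd hj' Bool.false_ne_true
  obtain ⟨eJ⟩ := hJ
  subst hAb
  have hJL : Spor.IsoJ2 L := ⟨(((QuotientGroup.quotientBot).trans
    ((MulEquiv.subgroupCongr hLt).trans Subgroup.topEquiv)).symm).trans eJ⟩
  obtain ⟨P, z, hP25, hP5, hPc, hz, hnz⟩ := j2_five hJL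
  refine no_three8 (E := P.map L.subtype) (z := (z : T8)) ?_ ?_ ?_ ?_ ?_
  · rw [Subgroup.card_map_of_injective L.subtype_injective, hP25]
  · rintro _ ⟨g, hg, rfl⟩
    rw [← map_pow, hP5 g hg, map_one]
  · rintro _ ⟨g, hg, rfl⟩ _ ⟨g', hg', rfl⟩
    rw [← map_mul, hPc g hg g' hg', map_mul]
  · rw [Subgroup.orderOf_coe, hz]
  · rintro _ ⟨g, hg, rfl⟩
    exact ⟨z * g * z⁻¹, hnz g hg, rfl⟩

/-- **The row of `POmega⁺₈(F)`, `|F| = 2`** -/
theorem row_o82 (F : Type) [Field F] [Fintype F] (hF : Fintype.card F = 2) : Row (POmega F (quadFormPlus 4 F)) :=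
  Row.congr (El.pomCongr hF).symm (row_t8 OT hS)

end Cfsg.Agent.H884.Od8
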