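import Cfsg.Agent.H503.El.Fix

/-!
# Elementary abelian groups of order `25` acting on a quadratic space of dimension `8` over `𝔽₂` (helper884)

For the row of `Ω⁺₈(2)` in S3561.
-/

set_option autoImplicit false

namespace Cfsg.Agent.H884.Od8

open Subgroup Cfsg.Agent.H503.El

/-- Burnside's lemma for an invariant subset -/
theorem burnside {E V : Type*} [Group E] [Fintype E] [MulAction E V] [Finite V] (P : V → Prop)
    (hP : ∀ (g : E) (v : V), P v → P (g • v)) :
    Fintype.card E ∣ ∑ g : E, Nat.card {v : V // P v ∧ g • v = v} := by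
  classical
  let M : SubMulAction E V := { carrier := {v | P v}, smul_mem' := fun g v hv => hP g v hv }
  have : Fintype M := Fintype.ofFinite M
  have : ∀ g : E, Fintype (MulAction.fixedBy M g) := fun g => Fintype.ofFinite _
  have : Fintype (Quotient (MulAction.orbitRel E M)) := Fintype.ofFinite _
  have h1 := MulAction.sum_card_fixedBy_eq_card_orbits_mul_card_group E M
  have h2 : ∀ g : E, Fintype.card (MulAction.fixedBy M g) = Nat.card {v : V // P v ∧ g • v = v} := by
    intro g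
    rw [← Nat.card_eq_fintype_card]
    exact Nat.card_congr ⟨fun a => ⟨a.1.1, a.1.2, congrArg Subtype.val a.2⟩,
      fun a => ⟨⟨a.1, a.2.1⟩, Subtype.ext a.2.2⟩, fun _ => rfl, fun _ => rfl⟩
  rw [← Finset.sum_congr rfl (fun g _ => h2 g)]
  exact Dvd.intro_left _ h1.symm

/-- sets of elements of order `5` closed under powers -/
theorem four_dvd {E : Type*} [Group E] [Fintype E] [DecidableEq E] (h5 : ∀ g : E, g ^ 5 = 1) (s : Finset E)
    (h1 : (1 : E) ∉ s) (hs : ∀ g ∈ s, ∀ k : ℕ, ¬ 5 ∣ k → g ^ k ∈ s) : 4 ∣ s.card := by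
  classical
  have : Fact (Nat.Prime 5) := ⟨by norm_num⟩
  rw [Finset.card_eq_sum_card_image (fun g => zpowers g) s]
  apply Finset.dvd_sum
  intro b hb
  obtain ⟨g, hg, rfl⟩ := Finset.mem_image.1 hb
  have hg1 : g ≠ 1 := fun h => h1 (h ▸ hg)
  have hgo : orderOf g = 5 := orderOf_eq_prime (h5 g) hg1
  have h2 : s.filter (fun a => zpowers a = zpowers g) = (Finset.Icc 1 4).image (fun k => g ^ k) := by
    ext a
    rw [Finset.mem_filter, Finset.mem_image]
    constructor
    · rintro ⟨ha, haz⟩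
      have h3 : a ∈ zpowers g := by rw [← haz]; exact mem_zpowers a
      obtain ⟨k, hk, rfl⟩ := (mem_zpowers_iff_mem_range_orderOf.1 h3 |> Finset.mem_image.1)
      rw [hgo, Finset.mem_range] at hk
      refine ⟨k, Finset.mem_Icc.2 ⟨?_, by omega⟩, rfl⟩
      by_contra hk0
      have : k = 0 := by omega
      subst this
      exact h1 (by simpa using ha)
    · rintro ⟨k, hk, rfl⟩
      rw [Finset.mem_Icc] at hk
      have hk5 : ¬ 5 ∣ k := fun hd => by
        have := Nat.le_of_dvd (by omega) hd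
        omega
      refine ⟨hs g hg k hk5, ?_⟩
      apply le_antisymm
      · exact zpowers_le.2 (pow_mem (mem_zpowers g) k)
      · rw [zpowers_le]
        have h6 : Nat.Coprime 5 k := (Nat.Prime.coprime_iff_not_dvd (by norm_num)).2 hk5
        have h7 : (zpowers (g ^ k) : Subgroup E) = zpowers g := by
          refine Subgroup.eq_of_le_of_card_ge (zpowers_le.2 (pow_mem (mem_zpowers g) k)) ?_
          rw [Nat.card_zpowers, Nat.card_zpowers, Nat.Coprime.orderOf_pow (by rw [hgo]; exact h6)]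
        rw [h7]
        exact mem_zpowers g
  rw [h2, Finset.card_image_of_injOn]
  · simp
  · intro i hi j hj hij
    rw [Finset.mem_coe, Finset.mem_Icc] at hi hj
    exact pow_injOn_Iio_orderOf (by rw [Set.mem_Iio, hgo]; omega) (by rw [Set.mem_Iio, hgo]; omega) hij

section fx

variable {S V : Type*} [Group S] [CommGroup V] [MulDistribMulAction S V]

variable (V) in
/-- the fixed vectors -/
def fx (g : S) : Subgroup V where
  carrier := {v | g • v = v}
  one_mem' := smul_one g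
  mul_mem' := by
    intro a b ha hb
    show g • (a * b) = a * b
    rw [smul_mul', ha, hb]
  inv_mem' := by
    intro a ha
    show g • a⁻¹ = a⁻¹
    rw [smul_inv', ha]

theorem mem_fx {g : S} {v : V} : v ∈ fx V g ↔ g • v = v := Iff.rfl

theorem fx_pow_le (g : S) (k : ℕ) : fx V g ≤ fx V (g ^ k) := by
  intro v hv
  have h1 : g ∈ MulAction.stabilizer S v := hv
  exact pow_mem h1 k

theorem fx_le_of_mem {g h : S} (hh : h ∈ zpowers g) : fx V g ≤ fx V h := by
  intro v hv
  have h1 : g ∈ MulAction.stabilizer S v := hv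
  exact (zpowers_le.2 h1) hh

theorem fx_smul {g t : S} (h : t * g = g * t) {v : V} (hv : v ∈ fx V g) : t • v ∈ fx V g := by
  show g • (t • v) = t • v
  rw [← mul_smul, ← h, mul_smul, hv]

variable [Finite V]

/-- fixed vectors in an invariant subgroup -/
theorem card_inv_mod {p : ℕ} (hp : p.Prime) {x : S} (hx : orderOf x = p) (W : Subgroup V)
    (hW : ∀ v ∈ W, x • v ∈ W) : Nat.card W ≡ Nat.card (W ⊓ fx V x : Subgroup V) [MOD p] :=
  Fix.card_mod hp hx (W : Set V) hW

theorem dvd_cases {n : ℕ} (h : n ∣ 256) (hm : n % 5 = 1) : n = 1 ∨ n = 16 ∨ n = 256 := by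
  obtain ⟨j, hj, rfl⟩ := (Nat.dvd_prime_pow Nat.prime_two (m := 8)).1 (by simpa using h)
  interval_cases j <;> simp_all

theorem card_fx (hV : Nat.card V = 256) (hf : ∀ g : S, (∀ v : V, g • v = v) → g = 1) {x : S} (hx : orderOf x = 5) :
    Nat.card (fx V x) = 1 ∨ Nat.card (fx V x) = 16 := by
  have h1 := card_inv_mod (by norm_num) hx (⊤ : Subgroup V) (fun v _ => Subgroup.mem_top _)
  rw [top_inf_eq, Subgroup.card_top, hV] at h1
  have h2 : Nat.card (fx V x) ∣ 256 := hV ▸ Subgroup.card_subgroup_dvd_card _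
  rcases dvd_cases h2 (by unfold Nat.ModEq at h1; omega) with h | h | h
  · exact Or.inl h
  · exact Or.inr h
  · exfalso
    have h3 : fx V x = ⊤ := Subgroup.eq_top_of_card_eq _ (by rw [h, hV])
    have h4 : x = 1 := hf x fun v => by
      have : v ∈ fx V x := by rw [h3]; trivial
      exact this
    rw [h4, orderOf_one] at hx
    omega

/-- an element commuting with `x₁`, `x₂` -/
theorem cases_inf {x₁ x₂ t : S} (h2 : orderOf x₂ = 5) (hc : x₂ * x₁ = x₁ * x₂) (h16 : Nat.card (fx V x₁) = 16)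
    (hbot : fx V x₁ ⊓ fx V x₂ = ⊥) (ht2 : x₂ * t = t * x₂) :
    fx V x₁ ⊓ fx V t = ⊥ ∨ fx V x₁ ≤ fx V t := by
  have h1 := card_inv_mod (by norm_num) h2 (fx V x₁ ⊓ fx V t) (fun v hv => ⟨fx_smul hc hv.1, fx_smul ht2 hv.2⟩)
  have h3 : fx V x₁ ⊓ fx V t ⊓ fx V x₂ = ⊥ := by
    rw [eq_bot_iff, ← hbot]
    exact fun v hv => ⟨hv.1.1, hv.2⟩
  rw [h3, Subgroup.card_bot] at h1
  have h4 : Nat.card (fx V x₁ ⊓ fx V t : Subgroup V) ∣ 16 := h16 ▸ Subgroup.card_dvd_of_le inf_le_left
  rcases dvd_cases (h4.trans (by norm_num)) (by unfold Nat.ModEq at h1; omega) with h | h | h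
  · left
    exact Subgroup.card_eq_one.1 h
  · right
    have h5 : fx V x₁ ⊓ fx V t = fx V x₁ := Subgroup.eq_of_le_of_card_ge inf_le_left (by rw [h, h16])
    rw [← h5]
    exact inf_le_right
  · rw [h] at h4
    exact absurd h4 (by norm_num)

theorem le_of_two {x₁ x₂ t : S} (h2 : orderOf x₂ = 5) (hc : x₂ * x₁ = x₁ * x₂) (h16 : Nat.card (fx V x₁) = 16)
    (hbot : fx V x₁ ⊓ fx V x₂ = ⊥) (ht1 : t * x₁ = x₁ * t) (ht2 : x₂ * t = t * x₂) (ht : orderOf t = 2) :
    fx V x₁ ≤ fx V t := by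
  rcases cases_inf h2 hc h16 hbot ht2 with h | h
  · exfalso
    have h1 := card_inv_mod Nat.prime_two ht (fx V x₁) (fun v hv => fx_smul ht1 hv)
    rw [h, h16, Subgroup.card_bot] at h1
    exact absurd h1 (by decide)
  · exact h

theorem eq_one_of_le (hV : Nat.card V = 256) (hf : ∀ g : S, (∀ v : V, g • v = v) → g = 1) {x₁ x₂ t : S}
    (h16 : Nat.card (fx V x₁) = 16) (h16' : Nat.card (fx V x₂) = 16) (hbot : fx V x₁ ⊓ fx V x₂ = ⊥)
    (h1 : fx V x₁ ≤ fx V t) (h2 : fx V x₂ ≤ fx V t) : t = 1 := by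
  have h3 : (fx V x₁).IsComplement' (fx V x₂) :=
    Subgroup.isComplement'_of_card_mul_and_disjoint (by rw [h16, h16', hV]) (disjoint_iff.2 hbot)
  have h4 : fx V t = ⊤ := by
    rw [eq_top_iff, ← h3.sup_eq_top]
    exact sup_le h1 h2
  exact hf t fun v => by
    have : v ∈ fx V t := by rw [h4]; trivial
    exact this

theorem mem_of_pow {D : Subgroup S} {z : S} {p k : ℕ} (hp : p.Prime) (hz : orderOf z = p) (hk : ¬ p ∣ k)
    (h : z ^ k ∈ D) : z ∈ D := by
  have hfo : IsOfFinOrder z := orderOf_pos_iff.1 (by rw [hz]; exact hp.pos)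
  have h1 : Nat.Coprime (orderOf z) k := by rw [hz]; exact (Nat.Prime.coprime_iff_not_dvd hp).2 hk
  have h2 : (zpowers (z ^ k) : Subgroup S) = zpowers z := by
    have : Finite (zpowers z) := hfo.finite_zpowers
    refine Subgroup.eq_of_le_of_card_ge (zpowers_le.2 (pow_mem (mem_zpowers z) k)) ?_
    rw [Nat.card_zpowers, Nat.card_zpowers, Nat.Coprime.orderOf_pow h1]
  have h3 : z ∈ zpowers (z ^ k) := by rw [h2]; exact mem_zpowers z
  exact (zpowers_le.2 h) h3

/-- the group `⟨z x₂⟩` is transitive on the non-trivial vectors fixed by `x₁` -/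
theorem trans15 {x₁ x₂ z : S} (h2 : orderOf x₂ = 5) (hc : x₂ * x₁ = x₁ * x₂) (h16 : Nat.card (fx V x₁) = 16)
    (hbot : fx V x₁ ⊓ fx V x₂ = ⊥) (hz1 : z * x₁ = x₁ * z) (hz2 : z * x₂ = x₂ * z) (hz : orderOf z = 3)
    (hbz : fx V x₁ ⊓ fx V z = ⊥) {w w' : V} (hw : w ∈ fx V x₁) (hw1 : w ≠ 1) (hw' : w' ∈ fx V x₁) (hw1' : w' ≠ 1) :
    ∃ k : ℕ, w' = (z * x₂) ^ k • w := by
  have hcom : Commute z x₂ := hz2
  have hux : (z * x₂) * x₁ = x₁ * (z * x₂) := by rw [mul_assoc, hc, ← mul_assoc, hz1, mul_assoc]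
  have hinv : ∀ k : ℕ, (z * x₂) ^ k • w ∈ fx V x₁ := by
    intro k
    induction k with
    | zero => rwa [pow_zero, one_smul]
    | succ k ih => rw [pow_succ', mul_smul]; exact fx_smul hux ih
  have hne : ∀ k : ℕ, (z * x₂) ^ k • w ≠ 1 := by
    intro k h
    apply hw1
    rw [← inv_smul_smul ((z * x₂) ^ k) w, h, smul_one]
  let f : Fin 15 → {v : fx V x₁ // v ≠ 1} := fun k => ⟨⟨(z * x₂) ^ (k : ℕ) • w, hinv k⟩, fun h => hne k (congrArg Subtype.val h)⟩
  have key : ∀ d : ℕ, 0 < d → d < 15 → (z * x₂) ^ d • w ≠ w := by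
    intro d hd hd' h
    have h3 : (z * x₂) ^ d ∈ MulAction.stabilizer S w := h
    by_cases h4 : 3 ∣ d
    · have h5 : ¬ 5 ∣ d * 3 := by omega
      have h6 := pow_mem h3 3
      rw [← pow_mul, hcom.mul_pow, show z ^ (d * 3) = 1 by rw [mul_comm, pow_mul, ← hz, pow_orderOf_eq_one, one_pow],
        one_mul] at h6
      have h7 : x₂ ∈ MulAction.stabilizer S w := mem_of_pow (by norm_num) h2 h5 h6
      have h8 : w ∈ fx V x₁ ⊓ fx V x₂ := ⟨hw, h7⟩
      rw [hbot] at h8
      exact hw1 (Subgroup.mem_bot.1 h8)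
    · have h5 : ¬ 3 ∣ d * 5 := by omega
      have h6 := pow_mem h3 5
      rw [← pow_mul, hcom.mul_pow, show x₂ ^ (d * 5) = 1 by rw [mul_comm, pow_mul, ← h2, pow_orderOf_eq_one, one_pow],
        mul_one] at h6
      have h7 : z ∈ MulAction.stabilizer S w := mem_of_pow (by norm_num) hz h5 h6
      have h8 : w ∈ fx V x₁ ⊓ fx V z := ⟨hw, h7⟩
      rw [hbz] at h8
      exact hw1 (Subgroup.mem_bot.1 h8)
  have key2 : ∀ i j : ℕ, i < j → j < 15 → (z * x₂) ^ i • w ≠ (z * x₂) ^ j • w := by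
    intro i j hij hj h
    apply key (j - i) (by omega) (by omega)
    have h1 : (z * x₂) ^ j = (z * x₂) ^ i * (z * x₂) ^ (j - i) := by rw [← pow_add]; congr 1; omega
    rw [h1, mul_smul] at h
    exact (MulAction.injective _ h).symm
  have hf : Function.Injective f := by
    intro i j hij
    have h1 : (z * x₂) ^ (i : ℕ) • w = (z * x₂) ^ (j : ℕ) • w := congrArg (fun v => ((v.1 : fx V x₁) : V)) hij
    rcases lt_trichotomy (i : ℕ) j with h | h | h
    · exact absurd h1 (key2 i j h j.2)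
    · exact Fin.ext h
    · exact absurd h1.symm (key2 j i h i.2)
  have hcard : Nat.card {v : fx V x₁ // v ≠ 1} = 15 := by
    have h1 : Nat.card {v : fx V x₁ // v ≠ 1} + Nat.card {v : fx V x₁ // v = 1} = 16 := by
      rw [← h16, add_comm]
      have := Fintype.ofFinite (fx V x₁)
      classical
      simp only [Nat.card_eq_fintype_card]
      exact Fintype.card_subtype_compl (fun v : fx V x₁ => v = 1) ▸ by
        have h2 : Fintype.card {v : fx V x₁ // v = 1} ≤ Fintype.card (fx V x₁) := Fintype.card_subtype_le _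
        omega
    have h2 : Nat.card {v : fx V x₁ // v = 1} = 1 := by
      rw [Nat.card_eq_one_iff_unique]
      exact ⟨⟨fun a b => Subtype.ext (a.2.trans b.2.symm)⟩, ⟨⟨1, rfl⟩⟩⟩
    omega
  have hb := hf.bijective_of_nat_card_le (by rw [hcard, Nat.card_eq_fintype_card, Fintype.card_fin])
  obtain ⟨k, hk⟩ := hb.2 ⟨⟨w', hw'⟩, fun h => hw1' (congrArg Subtype.val h)⟩
  exact ⟨k, (congrArg (fun v => ((v.1 : fx V x₁) : V)) hk).symm⟩

/-- a group of order `16` contains three independent vectors -/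
theorem exists_three (W : Subgroup V) (h16 : Nat.card W = 16) (hsq : ∀ v : V, v * v = 1) :
    ∃ u v w : V, u ∈ W ∧ v ∈ W ∧ w ∈ W ∧ u ≠ 1 ∧ v ≠ 1 ∧ w ≠ 1 ∧ u * v ≠ 1 ∧ u * w ≠ 1 ∧ v * w ≠ 1 ∧ u * v * w ≠ 1 := by
  classical
  have hex : ∀ s : Finset V, s.card < 16 → ∃ w ∈ W, w ∉ s := by
    intro s hs
    by_contra hcon
    push Not at hcon
    have h1 : Nat.card W ≤ Nat.card (s : Set V) := Nat.card_mono (Set.toFinite _) (fun v hv => hcon v hv)
    rw [h16] at h1
    have h2 : Nat.card (s : Set V) = s.card := by simp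
    omega
  have hne : ∀ a b : V, b ≠ a → a * b ≠ 1 := by
    intro a b hab h
    apply hab
    calc b = (a * a) * b := by rw [hsq, one_mul]
      _ = a * (a * b) := mul_assoc _ _ _
      _ = a := by rw [h, mul_one]
  obtain ⟨u, hu, hu'⟩ := hex {1} (by simp)
  obtain ⟨v, hv, hv'⟩ := hex {1, u} (lt_of_le_of_lt (Finset.card_insert_le _ _) (by simp))
  obtain ⟨w, hw, hw'⟩ := hex {1, u, v, u * v} (by
    refine lt_of_le_of_lt (Finset.card_insert_le _ _) ?_
    have h1 := Finset.card_insert_le u {v, u * v}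
    have h2 := Finset.card_insert_le v {u * v}
    rw [Finset.card_singleton] at h2
    omega)
  simp only [Finset.mem_insert, Finset.mem_singleton, not_or] at hu' hv' hw'
  exact ⟨u, v, w, hu, hv, hw, hu', hv'.1, hw'.1, hne u v hv'.2, hne u w hw'.2.1, hne v w hw'.2.2.1,
    hne (u * v) w hw'.2.2.2⟩

end fx

end Cfsg.Agent.H884.Od8
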