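import Cfsg.Agent.H884.Od8.Abs

/-!
# Elementary abelian groups of order `25` acting on a quadratic space of dimension `8` over `𝔽₂`: the main lemmas
(helper884)
-/

set_option autoImplicit false

namespace Cfsg.Agent.H884.Od8

open Subgroup Cfsg.Agent.H503.El

variable {S V : Type*} [Group S] [CommGroup V] [MulDistribMulAction S V] [Finite V]

/-- the situation -/
structure Sit (Q : V → ZMod 2) (E : Subgroup S) : Prop where
  cardV : Nat.card V = 256
  faith : ∀ g : S, (∀ v : V, g • v = v) → g = 1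
  sq : ∀ v : V, v * v = 1
  inv : ∀ (g : S) (v : V), Q (g • v) = Q v
  quad : ∀ u v w : V, Q (u * v * w) + Q (u * v) + Q (u * w) + Q (v * w) + Q u + Q v + Q w = 0
  cardQ : Nat.card {v : V // Q v = 0} = 136
  cardE : Nat.card E = 25
  pow : ∀ g ∈ E, g ^ 5 = 1
  comm : ∀ g ∈ E, ∀ h ∈ E, g * h = h * g

namespace Sit

variable {Q : V → ZMod 2} {E : Subgroup S} (h : Sit Q E)

include h

theorem finite : Finite E := Nat.finite_of_card_ne_zero (by rw [h.cardE]; norm_num)

theorem order {g : S} (hg : g ∈ E) (hg1 : g ≠ 1) : orderOf g = 5 := by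
  have : Fact (Nat.Prime 5) := ⟨by norm_num⟩
  exact orderOf_eq_prime (h.pow g hg) hg1

theorem card_cases {g : S} (hg : g ∈ E) (hg1 : g ≠ 1) : Nat.card (fx V g) = 1 ∨ Nat.card (fx V g) = 16 :=
  card_fx h.cardV h.faith (h.order hg hg1)

theorem card_one : Nat.card (fx V (1 : S)) = 256 := by
  have h1 : fx V (1 : S) = ⊤ := by
    rw [eq_top_iff]
    intro v _
    exact one_smul S v
  rw [h1, Subgroup.card_top, h.cardV]

theorem fx_eq_of_pow {g : S} (hg : g ∈ E) {k : ℕ} (hk : ¬ 5 ∣ k) : fx V (g ^ k) = fx V g := by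
  apply le_antisymm
  · intro v hv
    have h1 : g ^ k ∈ MulAction.stabilizer S v := hv
    by_cases hg1 : g = 1
    · subst hg1
      exact one_smul S v
    · have h2 : g ∈ MulAction.stabilizer S v := mem_of_pow (by norm_num) (h.order hg hg1) hk h1
      exact h2
  · exact fx_pow_le g k

theorem fx_eq_of_mem {g x : S} (hx : x ∈ E) (hg : g ∈ zpowers x) (hg1 : g ≠ 1) : fx V g = fx V x := by
  have h5 : Fact (Nat.Prime 5) := ⟨by norm_num⟩
  have hgE : g ∈ E := (zpowers_le.2 hx) hg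
  have hx1 : x ≠ 1 := by
    intro h1
    rw [h1, zpowers_one_eq_bot] at hg
    exact hg1 (Subgroup.mem_bot.1 hg)
  have hfo : Finite (zpowers x) := by
    apply Nat.finite_of_card_ne_zero
    rw [Nat.card_zpowers, h.order hx hx1]
    norm_num
  have h1 : zpowers g = zpowers x := by
    refine Subgroup.eq_of_le_of_card_ge (zpowers_le.2 hg) ?_
    rw [Nat.card_zpowers, Nat.card_zpowers, h.order hx hx1, h.order hgE hg1]
  apply le_antisymm
  · exact fx_le_of_mem (by rw [h1]; exact mem_zpowers x)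
  · exact fx_le_of_mem hg

open Classical in
/-- the special elements -/
theorem card_special [Fintype E] :
    (Finset.univ.filter fun g : E => g ≠ 1 ∧ Nat.card (fx V (g : S)) = 16).card = 8 := by
  set s := Finset.univ.filter fun g : E => g ≠ 1 ∧ Nat.card (fx V (g : S)) = 16 with hs
  have h4 : 4 ∣ s.card := by
    refine four_dvd (fun g => Subtype.ext (h.pow g.1 g.2)) s (by simp [hs]) ?_
    intro g hg k hk
    rw [hs, Finset.mem_filter] at hg ⊢
    refine ⟨Finset.mem_univ _, ?_, ?_⟩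
    · intro h1
      apply hg.2.1
      have h2 : g ∈ (⊥ : Subgroup E) := mem_of_pow (p := 5) (by norm_num) (by
        rw [← Subgroup.orderOf_coe]
        exact h.order g.2 fun h3 => hg.2.1 (Subtype.ext h3)) hk (by rw [h1]; exact one_mem _)
      exact Subgroup.mem_bot.1 h2
    · show Nat.card (fx V ((g : S) ^ k)) = 16
      rw [h.fx_eq_of_pow g.2 hk]
      exact hg.2.2
  have hle : s.card ≤ 24 := by
    have h1 : s ⊆ Finset.univ.erase 1 := by
      intro g hg
      rw [hs, Finset.mem_filter] at hg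
      exact Finset.mem_erase.2 ⟨hg.2.1, Finset.mem_univ _⟩
    have h2 := Finset.card_le_card h1
    rw [Finset.card_erase_of_mem (Finset.mem_univ _), Finset.card_univ, ← Nat.card_eq_fintype_card, h.cardE] at h2
    exact h2
  have h1 := burnside (E := E) (V := V) (fun _ => True) (fun _ _ _ => trivial)
  have h2 : ∀ g : E, Nat.card {v : V // True ∧ g • v = v} =
      1 + (if g = 1 then 255 else 0) + (if g ∈ s then 15 else 0) := by
    intro g
    have h3 : Nat.card {v : V // True ∧ g • v = v} = Nat.card (fx V (g : S)) :=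
      Nat.card_congr (Equiv.subtypeEquivRight fun v => ⟨fun h => h.2, fun h => ⟨trivial, h⟩⟩)
    rw [h3]
    by_cases hg1 : g = 1
    · have h5 : g ∉ s := by rw [hs, Finset.mem_filter]; exact fun h6 => h6.2.1 hg1
      rw [if_neg h5, if_pos hg1, hg1, OneMemClass.coe_one, h.card_one]
    · rcases h.card_cases g.2 (fun h4 => hg1 (Subtype.ext h4)) with h4 | h4
      · have h5 : g ∉ s := by
          rw [hs, Finset.mem_filter]
          intro h6
          rw [h4] at h6
          exact absurd h6.2.2 (by norm_num)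
        rw [if_neg h5, if_neg hg1, h4]
      · have h5 : g ∈ s := by rw [hs, Finset.mem_filter]; exact ⟨Finset.mem_univ _, hg1, h4⟩
        rw [if_pos h5, if_neg hg1, h4]
  rw [Finset.sum_congr rfl (fun g _ => h2 g), Finset.sum_add_distrib, Finset.sum_add_distrib, Finset.sum_ite_eq',
    Finset.sum_const, ← Finset.sum_filter, Finset.sum_const, Finset.filter_mem_eq_inter, Finset.univ_inter,
    Finset.card_univ, ← Nat.card_eq_fintype_card, h.cardE, if_pos (Finset.mem_univ _)] at h1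
  simp only [smul_eq_mul] at h1
  omega

open Classical in
/-- the non-trivial powers of an element -/
theorem card_zp [Fintype E] {x : S} (hx : x ∈ E) (hx1 : x ≠ 1) :
    (Finset.univ.filter fun g : E => g ≠ 1 ∧ (g : S) ∈ zpowers x).card = 4 := by
  have h1 : (Finset.univ.filter fun g : E => g ≠ 1 ∧ (g : S) ∈ zpowers x) =
      (Finset.univ.filter fun g : E => (g : S) ∈ zpowers x).erase 1 := by
    ext g
    simp
  have h2 : (Finset.univ.filter fun g : E => (g : S) ∈ zpowers x).card = 5 := by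
    rw [← h.order hx hx1, ← Nat.card_zpowers, ← Fintype.card_subtype, ← Nat.card_eq_fintype_card]
    exact Nat.card_congr ⟨fun g => ⟨g.1, g.2⟩, fun g => ⟨⟨g.1, (zpowers_le.2 hx) g.2⟩, g.2⟩, fun _ => rfl, fun _ => rfl⟩
  rw [h1, Finset.card_erase_of_mem (by simp [one_mem]), h2]

/-- the two special subgroups -/
theorem exists_pair : ∃ x₁ ∈ E, ∃ x₂ ∈ E, x₁ ≠ 1 ∧ x₂ ≠ 1 ∧ x₂ ∉ zpowers x₁ ∧ Nat.card (fx V x₁) = 16 ∧
    Nat.card (fx V x₂) = 16 ∧ fx V x₁ ⊓ fx V x₂ = ⊥ ∧
    ∀ g ∈ E, g ≠ 1 → Nat.card (fx V g) = 16 → g ∈ zpowers x₁ ∨ g ∈ zpowers x₂ := by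
  classical
  have hfin := h.finite
  have hft : Fintype E := Fintype.ofFinite E
  have h8 := h.card_special
  set s := Finset.univ.filter fun g : E => g ≠ 1 ∧ Nat.card (fx V (g : S)) = 16 with hs
  obtain ⟨x₁, hx₁⟩ : ∃ x₁, x₁ ∈ s := by
    rw [← Finset.Nonempty, ← Finset.card_pos, h8]; norm_num
  rw [hs, Finset.mem_filter] at hx₁
  have hx₁1 : (x₁ : S) ≠ 1 := fun h1 => hx₁.2.1 (Subtype.ext h1)
  have hc1 := h.card_zp x₁.2 hx₁1
  set s₁ := Finset.univ.filter fun g : E => g ≠ 1 ∧ (g : S) ∈ zpowers (x₁ : S) with hs₁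
  obtain ⟨x₂, hx₂, hx₂'⟩ : ∃ x₂ ∈ s, x₂ ∉ s₁ := Finset.exists_mem_notMem_of_card_lt_card (by rw [h8, hc1]; norm_num)
  rw [hs, Finset.mem_filter] at hx₂
  have hx₂1 : (x₂ : S) ≠ 1 := fun h1 => hx₂.2.1 (Subtype.ext h1)
  have hx₂z : (x₂ : S) ∉ zpowers (x₁ : S) := by
    intro h1
    apply hx₂'
    rw [hs₁, Finset.mem_filter]
    exact ⟨Finset.mem_univ _, hx₂.2.1, h1⟩
  have hc2 := h.card_zp x₂.2 hx₂1
  set s₂ := Finset.univ.filter fun g : E => g ≠ 1 ∧ (g : S) ∈ zpowers (x₂ : S) with hs₂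
  have hdisj : Disjoint s₁ s₂ := by
    rw [Finset.disjoint_left]
    intro g hg hg'
    rw [hs₁, Finset.mem_filter] at hg
    rw [hs₂, Finset.mem_filter] at hg'
    apply hx₂z
    have hg1 : (g : S) ≠ 1 := fun h1 => hg.2.1 (Subtype.ext h1)
    have h1 : ∀ x : E, (x : S) ≠ 1 → (g : S) ∈ zpowers (x : S) → zpowers (g : S) = zpowers (x : S) := by
      intro x hx1 hx
      have hfz : Finite (zpowers (x : S)) := by
        apply Nat.finite_of_card_ne_zero
        rw [Nat.card_zpowers, h.order x.2 hx1]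
        norm_num
      refine Subgroup.eq_of_le_of_card_ge (zpowers_le.2 hx) ?_
      rw [Nat.card_zpowers, Nat.card_zpowers, h.order x.2 hx1, h.order g.2 hg1]
    rw [← h1 x₁ hx₁1 hg.2.2, h1 x₂ hx₂1 hg'.2.2]
    exact mem_zpowers _
  have hsub : s₁ ∪ s₂ ⊆ s := by
    intro g hg
    rw [Finset.mem_union] at hg
    rw [hs, Finset.mem_filter]
    rcases hg with hg | hg
    · rw [hs₁, Finset.mem_filter] at hg
      refine ⟨Finset.mem_univ _, hg.2.1, ?_⟩
      rw [h.fx_eq_of_mem x₁.2 hg.2.2 fun h1 => hg.2.1 (Subtype.ext h1)]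
      exact hx₁.2.2
    · rw [hs₂, Finset.mem_filter] at hg
      refine ⟨Finset.mem_univ _, hg.2.1, ?_⟩
      rw [h.fx_eq_of_mem x₂.2 hg.2.2 fun h1 => hg.2.1 (Subtype.ext h1)]
      exact hx₂.2.2
  have heq : s₁ ∪ s₂ = s := Finset.eq_of_subset_of_card_le hsub (by
    rw [Finset.card_union_of_disjoint hdisj, hc1, hc2, h8])
  have hall : ∀ g ∈ E, g ≠ 1 → Nat.card (fx V g) = 16 → g ∈ zpowers (x₁ : S) ∨ g ∈ zpowers (x₂ : S) := by
    intro g hg hg1 hg16
    have h1 : (⟨g, hg⟩ : E) ∈ s₁ ∪ s₂ := by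
      rw [heq, hs, Finset.mem_filter]
      exact ⟨Finset.mem_univ _, fun h2 => hg1 (congrArg Subtype.val h2), hg16⟩
    rw [Finset.mem_union, hs₁, hs₂, Finset.mem_filter, Finset.mem_filter] at h1
    rcases h1 with h1 | h1
    · exact Or.inl h1.2.2
    · exact Or.inr h1.2.2
  refine ⟨x₁, x₁.2, x₂, x₂.2, hx₁1, hx₂1, hx₂z, hx₁.2.2, hx₂.2.2, ?_, hall⟩
  -- the intersection
  have hcm : (x₂ : S) * x₁ = x₁ * x₂ := h.comm _ x₂.2 _ x₁.2
  have h1 := card_inv_mod (by norm_num) (h.order x₂.2 hx₂1) (fx V (x₁ : S)) (fun v hv => fx_smul hcm hv)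
  rw [hx₁.2.2] at h1
  have h4 : Nat.card (fx V (x₁ : S) ⊓ fx V (x₂ : S) : Subgroup V) ∣ 16 :=
    hx₁.2.2 ▸ Subgroup.card_dvd_of_le inf_le_left
  rcases dvd_cases (h4.trans (by norm_num)) (by unfold Nat.ModEq at h1; omega) with h5 | h5 | h5
  · exact Subgroup.card_eq_one.1 h5
  · exfalso
    have h6 : fx V (x₁ : S) ⊓ fx V (x₂ : S) = fx V (x₁ : S) :=
      Subgroup.eq_of_le_of_card_ge inf_le_left (by rw [h5, hx₁.2.2])
    have h7 : fx V (x₁ : S) = fx V (x₂ : S) :=
      Subgroup.eq_of_le_of_card_ge (by rw [← h6]; exact inf_le_right) (by rw [hx₁.2.2, hx₂.2.2])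
    -- `x₁ x₂` is special
    have h9 : fx V (x₁ : S) ≤ fx V ((x₁ : S) * x₂) := by
      intro v hv
      have hv2 : v ∈ fx V (x₂ : S) := h7 ▸ hv
      show ((x₁ : S) * x₂) • v = v
      rw [mul_smul, hv2, hv]
    have h10 : (x₁ : S) * x₂ ∈ E := mul_mem x₁.2 x₂.2
    have h11 : (x₁ : S) * x₂ ≠ 1 := by
      intro h12
      apply hx₂z
      rw [eq_inv_of_mul_eq_one_right h12]
      exact inv_mem (mem_zpowers _)
    have h12 : Nat.card (fx V ((x₁ : S) * x₂)) = 16 := by
      rcases h.card_cases h10 h11 with h13 | h13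
      · have h14 := Subgroup.card_dvd_of_le h9
        rw [h13, hx₁.2.2] at h14
        exact absurd h14 (by norm_num)
      · exact h13
    rcases hall _ h10 h11 h12 with h13 | h13
    · apply hx₂z
      have h14 := mul_mem (inv_mem (mem_zpowers (x₁ : S))) h13
      rwa [inv_mul_cancel_left] at h14
    · apply hx₂z
      have h14 : (x₁ : S) ∈ zpowers (x₂ : S) := by
        have h15 := mul_mem h13 (inv_mem (mem_zpowers (x₂ : S)))
        rwa [mul_inv_cancel_right] at h15
      have hfz : Finite (zpowers (x₂ : S)) := by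
        apply Nat.finite_of_card_ne_zero
        rw [Nat.card_zpowers, h.order x₂.2 hx₂1]
        norm_num
      have h15 : zpowers (x₁ : S) = zpowers (x₂ : S) :=
        Subgroup.eq_of_le_of_card_ge (zpowers_le.2 h14) (by
          rw [Nat.card_zpowers, Nat.card_zpowers, h.order x₂.2 hx₂1, h.order x₁.2 hx₁1])
      rw [h15]
      exact mem_zpowers _
  · rw [h5] at h4
    exact absurd h4 (by norm_num)

/-- **no involution centralises `E`** -/
theorem no_two {t : S} (ht : orderOf t = 2) (hct : ∀ g ∈ E, t * g = g * t) : False := by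
  obtain ⟨x₁, hx₁, x₂, hx₂, hx₁1, hx₂1, -, hc₁, hc₂, hbot, -⟩ := h.exists_pair
  have hc := h.comm _ hx₂ _ hx₁
  have h1 := le_of_two (h.order hx₂ hx₂1) hc hc₁ hbot (hct _ hx₁) (hct _ hx₂).symm ht
  have h2 := le_of_two (h.order hx₁ hx₁1) hc.symm hc₂ (by rw [inf_comm, hbot]) (hct _ hx₂) (hct _ hx₁).symm ht
  have h3 := eq_one_of_le h.cardV h.faith hc₁ hc₂ hbot h1 h2
  rw [h3, orderOf_one] at ht
  omega

/-- a fixed point free element of order `3` on `fx x₁` -/
theorem core {x₁ x₂ z : S} (hx₁ : x₁ ∈ E) (hx₂ : x₂ ∈ E) (hx₁1 : x₁ ≠ 1) (hx₂1 : x₂ ≠ 1) (hnz : x₂ ∉ zpowers x₁)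
    (hc₁ : Nat.card (fx V x₁) = 16) (hc₂ : Nat.card (fx V x₂) = 16) (hbot : fx V x₁ ⊓ fx V x₂ = ⊥)
    (hall : ∀ g ∈ E, g ≠ 1 → Nat.card (fx V g) = 16 → g ∈ zpowers x₁ ∨ g ∈ zpowers x₂)
    (hz : orderOf z = 3) (hz1 : z * x₁ = x₁ * z) (hz2 : z * x₂ = x₂ * z) (hbz : fx V x₁ ⊓ fx V z = ⊥) : False := by
  classical
  have hfin := h.finite
  have hft : Fintype E := Fintype.ofFinite E
  have hc := h.comm _ hx₂ _ hx₁
  have hconst : ∀ w ∈ fx V x₁, ∀ w' ∈ fx V x₁, w ≠ 1 → w' ≠ 1 → Q w' = Q w := by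
    intro w hw w' hw' hw1 hw1'
    obtain ⟨k, rfl⟩ := trans15 (h.order hx₂ hx₂1) hc hc₁ hbot hz1 hz2 hz hbz hw hw1 hw' hw1'
    exact h.inv _ _
  have hQ1 : Q 1 = 0 := by
    have h1 := h.quad 1 1 1
    simp only [one_mul] at h1
    generalize Q 1 = c at h1
    revert h1
    revert c
    decide
  obtain ⟨u, v, w, hu, hv, hw, hu1, hv1, hw1, huv, huw, hvw, huvw⟩ := exists_three (fx V x₁) hc₁ h.sq
  have h0 : Q u = 0 := by
    have h1 := h.quad u v w
    rw [hconst u hu _ (mul_mem (mul_mem hu hv) hw) hu1 huvw, hconst u hu _ (mul_mem hu hv) hu1 huv,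
      hconst u hu _ (mul_mem hu hw) hu1 huw, hconst u hu _ (mul_mem hv hw) hu1 hvw, hconst u hu _ hv hu1 hv1,
      hconst u hu _ hw hu1 hw1] at h1
    generalize Q u = c at h1
    revert h1
    revert c
    decide
  have hsing : ∀ w ∈ fx V x₁, Q w = 0 := by
    intro w hw
    by_cases hw1 : w = 1
    · rw [hw1, hQ1]
    · rw [hconst u hu w hw hu1 hw1, h0]
  -- counting
  have hd := burnside (E := E) (V := V) (fun v => Q v = 0) (fun g v hv => by
    show Q ((g : S) • v) = 0
    rw [h.inv, hv])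
  set s₁ := Finset.univ.filter fun g : E => g ≠ 1 ∧ (g : S) ∈ zpowers x₁ with hs₁
  set s₂ := Finset.univ.filter fun g : E => g ≠ 1 ∧ (g : S) ∈ zpowers x₂ with hs₂
  have hcs₁ : s₁.card = 4 := h.card_zp hx₁ hx₁1
  have hcs₂ : s₂.card = 4 := h.card_zp hx₂ hx₂1
  set a := Nat.card {v : V // Q v = 0 ∧ x₂ • v = v} with ha
  have ha1 : 1 ≤ a := by
    rw [ha, Nat.one_le_iff_ne_zero, ← pos_iff_ne_zero, Nat.card_pos_iff]
    exact ⟨⟨⟨1, hQ1, smul_one _⟩⟩, inferInstance⟩
  have ha16 : a ≤ 16 := by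
    rw [ha, ← hc₂]
    exact Nat.card_le_card_of_injective (fun v => (⟨v.1, v.2.2⟩ : fx V x₂)) (fun v w hvw => Subtype.ext
      (congrArg (fun u : fx V x₂ => (u : V)) hvw))
  have hdj : ∀ g : E, g ∈ s₁ → g ∉ s₂ := by
    intro g hg hg'
    rw [hs₁, Finset.mem_filter] at hg
    rw [hs₂, Finset.mem_filter] at hg'
    have hg1 : (g : S) ≠ 1 := fun h1 => hg.2.1 (Subtype.ext h1)
    have h1 := h.fx_eq_of_mem hx₁ hg.2.2 hg1
    have h2 := h.fx_eq_of_mem hx₂ hg'.2.2 hg1
    rw [← h1, ← h2, inf_idem] at hbot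
    rw [← h1, hbot, Subgroup.card_bot] at hc₁
    exact absurd hc₁ (by norm_num)
  have key : ∀ g : E, Nat.card {v : V // Q v = 0 ∧ g • v = v} =
      1 + (if g = 1 then 135 else 0) + (if g ∈ s₁ then 15 else 0) + (if g ∈ s₂ then a - 1 else 0) := by
    intro g
    by_cases hg : g = 1
    · have h5 : g ∉ s₁ := by rw [hs₁, Finset.mem_filter]; exact fun h6 => h6.2.1 hg
      have h6 : g ∉ s₂ := by rw [hs₂, Finset.mem_filter]; exact fun h6 => h6.2.1 hg
      rw [if_pos hg, if_neg h5, if_neg h6, hg]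
      have h7 : Nat.card {v : V // Q v = 0 ∧ (1 : E) • v = v} = Nat.card {v : V // Q v = 0} :=
        Nat.card_congr (Equiv.subtypeEquivRight fun v => ⟨fun h => h.1, fun h => ⟨h, one_smul _ _⟩⟩)
      rw [h7, h.cardQ]
    · have hg1 : (g : S) ≠ 1 := fun h1 => hg (Subtype.ext h1)
      rw [if_neg hg]
      by_cases h1 : g ∈ s₁
      · rw [if_pos h1, if_neg (hdj g h1)]
        rw [hs₁, Finset.mem_filter] at h1
        have h2 := h.fx_eq_of_mem hx₁ h1.2.2 hg1
        have h7 : Nat.card {v : V // Q v = 0 ∧ g • v = v} = Nat.card (fx V x₁) :=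
          Nat.card_congr (Equiv.subtypeEquivRight fun v => ⟨fun h => by rw [← h2]; exact h.2, fun h' =>
            ⟨hsing _ h', by rw [← h2] at h'; exact h'⟩⟩)
        rw [h7, hc₁]
      · rw [if_neg h1]
        by_cases h2 : g ∈ s₂
        · rw [if_pos h2]
          rw [hs₂, Finset.mem_filter] at h2
          have h3 := h.fx_eq_of_mem hx₂ h2.2.2 hg1
          have h7 : Nat.card {v : V // Q v = 0 ∧ g • v = v} = a :=
            Nat.card_congr (Equiv.subtypeEquivRight fun v => by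
              have h8 : g • v = v ↔ x₂ • v = v := SetLike.ext_iff.1 h3 v
              rw [h8])
          rw [h7]
          omega
        · rw [if_neg h2]
          have h3 : Nat.card (fx V (g : S)) = 1 := by
            rcases h.card_cases g.2 hg1 with h4 | h4
            · exact h4
            · exfalso
              rcases hall g g.2 hg1 h4 with h5 | h5
              · exact h1 (by rw [hs₁, Finset.mem_filter]; exact ⟨Finset.mem_univ _, hg, h5⟩)
              · exact h2 (by rw [hs₂, Finset.mem_filter]; exact ⟨Finset.mem_univ _, hg, h5⟩)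
          have h4 := Subgroup.card_eq_one.1 h3
          rw [Nat.card_eq_one_iff_unique]
          refine ⟨⟨fun v w => ?_⟩, ⟨⟨1, hQ1, smul_one _⟩⟩⟩
          have h5 : ∀ v : {v : V // Q v = 0 ∧ g • v = v}, (v : V) = 1 := by
            intro v
            have h6 : (v : V) ∈ fx V (g : S) := v.2.2
            rw [h4] at h6
            exact Subgroup.mem_bot.1 h6
          exact Subtype.ext ((h5 v).trans (h5 w).symm)
  rw [Finset.sum_congr rfl (fun g _ => key g), Finset.sum_add_distrib, Finset.sum_add_distrib, Finset.sum_add_distrib,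
    Finset.sum_ite_eq', Finset.sum_const, ← Finset.sum_filter, ← Finset.sum_filter, Finset.sum_const, Finset.sum_const,
    Finset.filter_mem_eq_inter, Finset.univ_inter, Finset.filter_mem_eq_inter, Finset.univ_inter, hcs₁, hcs₂,
    Finset.card_univ, ← Nat.card_eq_fintype_card, h.cardE, if_pos (Finset.mem_univ _)] at hd
  simp only [smul_eq_mul] at hd
  omega

/-- **no element of order `3` centralises `E`** -/
theorem no_three {z : S} (hz : orderOf z = 3) (hcz : ∀ g ∈ E, z * g = g * z) : False := by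
  obtain ⟨x₁, hx₁, x₂, hx₂, hx₁1, hx₂1, hnz, hc₁, hc₂, hbot, hall⟩ := h.exists_pair
  have hc := h.comm _ hx₂ _ hx₁
  rcases cases_inf (h.order hx₂ hx₂1) hc hc₁ hbot (hcz _ hx₂).symm with h1 | h1
  · exact h.core hx₁ hx₂ hx₁1 hx₂1 hnz hc₁ hc₂ hbot hall hz (hcz _ hx₁) (hcz _ hx₂) h1
  · rcases cases_inf (h.order hx₁ hx₁1) hc.symm hc₂ (by rw [inf_comm, hbot]) (hcz _ hx₁).symm with h2 | h2
    · refine h.core hx₂ hx₁ hx₂1 hx₁1 ?_ hc₂ hc₁ (by rw [inf_comm, hbot]) (fun g hg hg1 h3 => (hall g hg hg1 h3).symm) hz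
        (hcz _ hx₂) (hcz _ hx₁) h2
      intro h3
      have h4 := h.fx_eq_of_mem hx₂ h3 hx₁1
      rw [h4, inf_idem] at hbot
      rw [hbot, Subgroup.card_bot] at hc₂
      exact absurd hc₂ (by norm_num)
    · have h3 := eq_one_of_le h.cardV h.faith hc₁ hc₂ hbot h1 h2
      rw [h3, orderOf_one] at hz
      omega

theorem card_special' : Nat.card {g : S // g ∈ E ∧ g ≠ 1 ∧ Nat.card (fx V g) = 16} = 8 := by
  classical
  have hfin := h.finite
  have hft : Fintype E := Fintype.ofFinite E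
  rw [← h.card_special, ← Fintype.card_subtype, ← Nat.card_eq_fintype_card]
  exact Nat.card_congr ⟨fun g => ⟨⟨g.1, g.2.1⟩, fun h1 => g.2.2.1 (congrArg Subtype.val h1), g.2.2.2⟩,
    fun g => ⟨g.1, g.1.2, fun h1 => g.2.1 (Subtype.ext h1), g.2.2⟩, fun _ => rfl, fun _ => rfl⟩

/-- **no element of order `3` normalises `E`** -/
theorem no_three_norm [Finite S] {z : S} (hz : orderOf z = 3) (hnz : ∀ g ∈ E, z * g * z⁻¹ ∈ E) : False := by
  classical
  refine h.no_three hz ?_
  -- the fixed points of `z` on the special elements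
  have hconj : ∀ g : S, Nat.card (fx V (z * g * z⁻¹)) = Nat.card (fx V g) := by
    intro g
    refine Nat.card_congr ⟨fun v => ⟨z⁻¹ • v.1, ?_⟩, fun v => ⟨z • v.1, ?_⟩, fun v => ?_, fun v => ?_⟩
    · have h1 : (z * g * z⁻¹) • v.1 = v.1 := v.2
      show g • (z⁻¹ • v.1) = z⁻¹ • v.1
      rw [← mul_smul, eq_inv_smul_iff, ← mul_smul, ← mul_assoc]
      exact h1
    · have h1 : g • v.1 = v.1 := v.2
      show (z * g * z⁻¹) • (z • v.1) = z • v.1
      rw [mul_smul, inv_smul_smul, mul_smul, h1]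
    · exact Subtype.ext (smul_inv_smul _ _)
    · exact Subtype.ext (inv_smul_smul _ _)
  have h1 := Fix.card_mod (S := ConjAct S) (α := S) (p := 3) (by norm_num) (x := ConjAct.toConjAct z)
    (by rw [← hz]; exact orderOf_injective (ConjAct.toConjAct (G := S)).toMonoidHom (ConjAct.toConjAct).injective z)
    {g : S | g ∈ E ∧ g ≠ 1 ∧ Nat.card (fx V g) = 16} (by
      rintro g ⟨hg, hg1, hg16⟩
      refine ⟨hnz g hg, fun h2 => hg1 ?_, ?_⟩
      · have h3 : z * g * z⁻¹ = 1 := h2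
        rwa [mul_inv_eq_one, mul_eq_left] at h3
      · exact (hconj g).trans hg16)
  have h8 : Nat.card {g : S | g ∈ E ∧ g ≠ 1 ∧ Nat.card (fx V g) = 16} = 8 := h.card_special'
  rw [h8] at h1
  -- the centralizer
  have hsub : ∀ g : S, ConjAct.toConjAct z • g = g ↔ z * g = g * z := by
    intro g
    rw [ConjAct.toConjAct_smul, mul_inv_eq_iff_eq_mul]
  set C : Subgroup S := E ⊓ centralizer {z} with hC
  have hCm : ∀ g, g ∈ C ↔ g ∈ E ∧ z * g = g * z := by
    intro g
    rw [hC, Subgroup.mem_inf, mem_centralizer_singleton_iff]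
    exact ⟨fun h => ⟨h.1, h.2.symm⟩, fun h => ⟨h.1, h.2.symm⟩⟩
  have hCd : Nat.card C ∣ 5 ^ 2 := by
    have h2 : Nat.card C ∣ Nat.card E := Subgroup.card_dvd_of_le inf_le_left
    rw [h.cardE] at h2
    simpa using h2
  obtain ⟨j, hj, hCj⟩ := (Nat.dvd_prime_pow (by norm_num : Nat.Prime 5)).1 hCd
  set A := {g : S // g ∈ {g : S | g ∈ E ∧ g ≠ 1 ∧ Nat.card (fx V g) = 16} ∧ ConjAct.toConjAct z • g = g} with hA
  have hAC : Nat.card A + 1 ≤ Nat.card C := by
    have h2 : Nat.card (Option A) = Nat.card A + 1 := Finite.card_option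
    rw [← h2]
    refine Nat.card_le_card_of_injective (fun o => match o with
      | none => (1 : C)
      | some g => ⟨g.1, (hCm _).2 ⟨g.2.1.1, (hsub _).1 g.2.2⟩⟩) ?_
    intro o o' ho
    match o, o' with
    | none, none => rfl
    | none, some g => exact absurd (congrArg (fun u : C => (u : S)) ho).symm g.2.1.2.1
    | some g, none => exact absurd (congrArg (fun u : C => (u : S)) ho) g.2.1.2.1
    | some g, some g' => exact congrArg some (Subtype.ext (congrArg (fun u : C => (u : S)) ho))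
  have hA2 : Nat.card A ≠ 0 := by
    intro h2
    rw [h2] at h1
    exact absurd h1 (by decide)
  have hne : Nonempty A := by
    by_contra hcon
    rw [not_nonempty_iff] at hcon
    exact hA2 Nat.card_of_isEmpty
  obtain ⟨g, ⟨hgE, hg1, hg16⟩, hgz⟩ := hne
  have hgz' := (hsub g).1 hgz
  -- four elements
  have h4 : 4 ≤ Nat.card A := by
    have hgo := h.order hgE hg1
    have h5 : Nat.card (Fin 4) = 4 := by simp
    rw [← h5]
    refine Nat.card_le_card_of_injective (fun k : Fin 4 => (⟨g ^ (k.1 + 1), ⟨pow_mem hgE _, ?_, ?_⟩, ?_⟩ : A)) ?_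
    · intro h6
      have h7 := orderOf_dvd_of_pow_eq_one h6
      rw [hgo] at h7
      have := Nat.le_of_dvd (by omega) h7
      omega
    · rw [h.fx_eq_of_pow hgE, hg16]
      intro h7
      have := Nat.le_of_dvd (by omega) h7
      omega
    · rw [hsub]
      exact (Commute.pow_right (show Commute z g from hgz') _)
    · intro i k hik
      have h6 : g ^ (i.1 + 1) = g ^ (k.1 + 1) := congrArg (fun u : A => (u.1 : S)) hik
      have h7 := pow_injOn_Iio_orderOf (x := g) (by rw [Set.mem_Iio, hgo]; omega) (by rw [Set.mem_Iio, hgo]; omega) h6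
      exact Fin.ext (by omega)
  have hj2 : j = 2 := by
    have h5 : j = 0 ∨ j = 1 ∨ j = 2 := by omega
    rcases h5 with h5 | h5 | h5
    · rw [hCj, h5] at hAC; omega
    · rw [hCj, h5] at hAC
      have h6 : Nat.card A = 4 := by omega
      rw [h6] at h1
      exact absurd h1 (by decide)
    · exact h5
  rw [hj2] at hCj
  have hfin := h.finite
  have hCE : C = E := Subgroup.eq_of_le_of_card_ge inf_le_left (by rw [hCj, h.cardE]; norm_num)
  intro g hg
  rw [← hCE] at hg
  exact ((hCm g).1 hg).2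

end Sit

end Cfsg.Agent.H884.Od8
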